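import Mathlib

open TensorProduct

namespace Groth.Agent.Lib.Helper32.Rosenlicht

section Points

variable (k : Type*) [Field k] [IsAlgClosed k] {A : Type*} [CommRing A] [Algebra k A]
  [Algebra.FiniteType k A]

theorem exists_algHom_ker_eq (m : Ideal A) [hm : m.IsMaximal] :
    ∃ φ : A →ₐ[k] k, ∀ a, φ a = 0 ↔ a ∈ m := by
  let := Ideal.Quotient.field m
  have hft : Algebra.FiniteType k (A ⧸ m) :=
    Algebra.FiniteType.of_surjective (Ideal.Quotient.mkₐ k m) Ideal.Quotient.mk_surjective
  have hfin := finite_of_finite_type_of_isJacobsonRing k (A ⧸ m)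
  have hint : Algebra.IsIntegral k (A ⧸ m) := inferInstance
  have hb : Function.Bijective (algebraMap k (A ⧸ m)) :=
    IsAlgClosed.algebraMap_bijective_of_isIntegral
  let e : k ≃ₐ[k] (A ⧸ m) := AlgEquiv.ofBijective (Algebra.ofId k (A ⧸ m)) hb
  refine ⟨(e.symm : (A ⧸ m) →ₐ[k] k).comp (Ideal.Quotient.mkₐ k m), fun a => ?_⟩
  simp only [AlgHom.coe_comp, Function.comp_apply, Ideal.Quotient.mkₐ_eq_mk]
  rw [← Ideal.Quotient.eq_zero_iff_mem]
  exact EmbeddingLike.map_eq_zero_iff (f := e.symm)

theorem nonempty_algHom [Nontrivial A] : Nonempty (A →ₐ[k] k) := by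
  obtain ⟨m, hm⟩ := Ideal.exists_maximal A
  obtain ⟨φ, -⟩ := exists_algHom_ker_eq k m
  exact ⟨φ⟩

theorem eq_zero_of_forall_algHom [IsDomain A] (a : A) (h : ∀ φ : A →ₐ[k] k, φ a = 0) : a = 0 := by
  have hJ : IsJacobsonRing A := isJacobsonRing_of_finiteType (A := k)
  have h1 : a ∈ Ideal.jacobson (⊥ : Ideal A) := by
    rw [Ideal.jacobson, Ideal.mem_sInf]
    rintro J ⟨-, hJm⟩
    obtain ⟨φ, hφ⟩ := exists_algHom_ker_eq k J
    exact (hφ a).mp (h φ)
  have h2 : Ideal.jacobson (⊥ : Ideal A) = ⊥ :=
    hJ.out (Ideal.isPrime_bot (α := A)).isRadical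
  rw [h2] at h1
  exact h1

end Points

section Eval

variable {k : Type*} [Field k] {L : Type*} [CommRing L] [Algebra k L] {A : Type*} [CommRing A]
  [Algebra k A]

noncomputable def evalRight (φ : A →ₐ[k] k) : L ⊗[k] A →ₐ[L] L :=
  Algebra.TensorProduct.lift (AlgHom.id L L) ((Algebra.ofId k L).comp φ)
    (fun _ _ => Commute.all _ _)

@[simp] lemma evalRight_tmul (φ : A →ₐ[k] k) (l : L) (a : A) :
    evalRight φ (l ⊗ₜ[k] a) = l * algebraMap k L (φ a) := by
  simp [evalRight, Algebra.ofId_apply]

end Eval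

theorem isDomain_tensor (k L A : Type*) [Field k] [IsAlgClosed k] [Field L] [Algebra k L]
    [CommRing A] [Algebra k A] [Algebra.FiniteType k A] [IsDomain A] : IsDomain (L ⊗[k] A) := by
  classical
  obtain ⟨φ0⟩ : Nonempty (A →ₐ[k] k) := nonempty_algHom k
  have hnt : Nontrivial (L ⊗[k] A) := (evalRight (L := L) φ0).toRingHom.domain_nontrivial
  have hnz : NoZeroDivisors (L ⊗[k] A) := by
    refine ⟨fun {x y} hxy => ?_⟩
    let bL := Module.Free.chooseBasis k L
    obtain ⟨c, rfl⟩ := TensorProduct.eq_repr_basis_left bL x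
    obtain ⟨d, rfl⟩ := TensorProduct.eq_repr_basis_left bL y
    have hcoef : ∀ (φ : A →ₐ[k] k) (c : Module.Free.ChooseBasisIndex k L →₀ A),
        evalRight (L := L) φ (c.sum fun i n => bL i ⊗ₜ[k] n) = 0 → ∀ i, φ (c i) = 0 := by
      intro φ c hc i
      rw [Finsupp.sum, map_sum] at hc
      simp only [evalRight_tmul] at hc
      have h := linearIndependent_iff'.mp bL.linearIndependent c.support (fun i => φ (c i))
        (by simpa [Algebra.smul_def, mul_comm] using hc)
      by_cases hi : i ∈ c.support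
      · exact h i hi
      · simp [Finsupp.notMem_support_iff.mp hi]
    have key : ∀ i j, c i * d j = 0 := by
      intro i j
      apply eq_zero_of_forall_algHom k
      intro φ
      have h := congrArg (evalRight (L := L) φ) hxy
      rw [map_mul, map_zero, mul_eq_zero] at h
      rw [map_mul]
      rcases h with h | h
      · rw [hcoef φ c h i, zero_mul]
      · rw [hcoef φ d h j, mul_zero]
    by_cases hc : c = 0
    · left; simp [hc]
    · right
      obtain ⟨i, hi⟩ : ∃ i, c i ≠ 0 := by
        by_contra h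
        push Not at h
        exact hc (Finsupp.ext h)
      have hd : d = 0 := Finsupp.ext fun j => (mul_eq_zero.mp (key i j)).resolve_left hi
      simp [hd]
  exact NoZeroDivisors.to_isDomain _

theorem isDomain_tensor_of_isDomain (k R A : Type*) [Field k] [IsAlgClosed k] [CommRing R]
    [IsDomain R] [Algebra k R]
    [CommRing A] [Algebra k A] [Algebra.FiniteType k A] [IsDomain A] : IsDomain (R ⊗[k] A) := by
  have := isDomain_tensor k (FractionRing R) A
  let f : R ⊗[k] A →ₐ[k] FractionRing R ⊗[k] A :=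
    Algebra.TensorProduct.map (IsScalarTower.toAlgHom k R (FractionRing R)) (AlgHom.id k A)
  have hf : Function.Injective f := by
    have : Function.Injective ((IsScalarTower.toAlgHom k R (FractionRing R)).toLinearMap.rTensor A) :=
      Module.Flat.rTensor_preserves_injective_linearMap _ (IsFractionRing.injective R _)
    exact this
  exact hf.isDomain f.toRingHom

end Groth.Agent.Lib.Helper32.Rosenlicht
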