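import Mathlib
import Groth.Agent.Lib.Helper32.Rosenlicht.Domain

open TensorProduct

namespace Groth.Agent.Lib.Helper32.Rosenlicht

section Coord

variable {k : Type*} [Field k] {A : Type*} [CommRing A] [Algebra k A] {ι : Type*}
  (b : Module.Basis ι k A)

noncomputable def coordL (L : Type*) [CommRing L] [Algebra k L] (i : ι) : L ⊗[k] A →ₗ[k] L :=
  (TensorProduct.rid k L).toLinearMap ∘ₗ (b.coord i).lTensor L

@[simp] lemma coordL_tmul (L : Type*) [CommRing L] [Algebra k L] (i : ι) (l : L) (a : A) :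
    coordL b L i (l ⊗ₜ[k] a) = (b.repr a i) • l := by
  simp [coordL]

lemma coordL_sum (L : Type*) [CommRing L] [Algebra k L] (s : Finset ι) (c : ι → L) (i : ι)
    (hi : i ∈ s) : coordL b L i (∑ j ∈ s, c j ⊗ₜ[k] b j) = c i := by
  classical
  rw [map_sum]
  simp only [coordL_tmul, Module.Basis.repr_self, Finsupp.single_apply]
  rw [Finset.sum_eq_single i]
  · simp
  · intro j _ hji
    simp [hji]
  · intro h
    exact absurd hi h

lemma coordL_map {L L' : Type*} [CommRing L] [Algebra k L] [CommRing L'] [Algebra k L']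
    (f : L →ₐ[k] L') (i : ι) (x : L ⊗[k] A) :
    coordL b L' i (Algebra.TensorProduct.map f (AlgHom.id k A) x) = f (coordL b L i x) := by
  induction x with
  | zero => simp
  | tmul l a => simp
  | add x y hx hy => simp only [map_add, hx, hy]

lemma evalRight_map {L L' : Type*} [CommRing L] [Algebra k L] [CommRing L'] [Algebra k L']
    (f : L →ₐ[k] L') (φ : A →ₐ[k] k) (x : L ⊗[k] A) :
    evalRight φ (Algebra.TensorProduct.map f (AlgHom.id k A) x) = f (evalRight φ x) := by
  induction x with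
  | zero => simp
  | tmul l a => simp
  | add x y hx hy => simp only [map_add, hx, hy]

end Coord

section Val

variable {k : Type*} [Field k] [IsAlgClosed k] {K : Type*} [Field K] [Algebra k K]
  {A : Type*} [CommRing A] [Algebra k A] [Algebra.FiniteType k A] [IsDomain A]
  (V : ValuationSubring K) [Algebra k V] [IsScalarTower k V K]

noncomputable def incl : V ⊗[k] A →ₐ[k] K ⊗[k] A :=
  Algebra.TensorProduct.map (IsScalarTower.toAlgHom k V K) (AlgHom.id k A)

noncomputable def red : V ⊗[k] A →ₐ[k] IsLocalRing.ResidueField V ⊗[k] A :=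
  Algebra.TensorProduct.map (IsScalarTower.toAlgHom k V (IsLocalRing.ResidueField V))
    (AlgHom.id k A)

omit [IsAlgClosed k] [Algebra.FiniteType k A] [IsDomain A] in
lemma incl_injective : Function.Injective (incl (k := k) (A := A) V) := by
  have : Function.Injective ((IsScalarTower.toAlgHom k V K).toLinearMap.rTensor A) :=
    Module.Flat.rTensor_preserves_injective_linearMap _ (FaithfulSMul.algebraMap_injective V K)
  exact this

omit [IsAlgClosed k] [Algebra.FiniteType k A] [IsDomain A] in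
lemma exists_primitive (u : K ⊗[k] A) (hu : u ≠ 0) :
    ∃ (f : K) (w : V ⊗[k] A), f ≠ 0 ∧ u = (f ⊗ₜ[k] 1) * incl V w ∧ red V w ≠ 0 := by
  classical
  let b := Module.Free.chooseBasis k A
  obtain ⟨c, rfl⟩ := TensorProduct.eq_repr_basis_right b u
  have hne : c.support.Nonempty := by
    rw [Finsupp.support_nonempty_iff]
    rintro rfl
    exact hu (by simp)
  obtain ⟨i0, hi0, hmax⟩ := Finset.exists_max_image c.support (fun i => V.valuation (c i)) hne
  have hf : c i0 ≠ 0 := Finsupp.mem_support_iff.mp hi0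
  have hex : ∀ i, ∃ a : V, (a : K) * c i0 = c i := by
    intro i
    rw [← ValuationSubring.valuation_le_iff]
    by_cases hi : i ∈ c.support
    · exact hmax i hi
    · rw [Finsupp.notMem_support_iff.mp hi, map_zero]
      exact zero_le
  choose g hg using hex
  refine ⟨c i0, ∑ i ∈ c.support, g i ⊗ₜ[k] b i, hf, ?_, ?_⟩
  · rw [Finsupp.sum, map_sum, Finset.mul_sum]
    refine Finset.sum_congr rfl fun i _ => ?_
    simp only [incl, Algebra.TensorProduct.map_tmul, IsScalarTower.coe_toAlgHom', AlgHom.coe_id,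
      id_eq, Algebra.TensorProduct.tmul_mul_tmul, one_mul]
    rw [mul_comm, ← hg i]
    rfl
  · intro h0
    have h1 := congrArg (coordL b (IsLocalRing.ResidueField V) i0) h0
    rw [red, map_sum] at h1
    simp only [Algebra.TensorProduct.map_tmul, IsScalarTower.coe_toAlgHom', AlgHom.coe_id,
      id_eq] at h1
    rw [coordL_sum b _ _ (fun i => algebraMap V (IsLocalRing.ResidueField V) (g i)) i0 hi0,
      map_zero] at h1
    have h2 : g i0 = 1 := by
      apply Subtype.ext
      have := hg i0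
      exact mul_right_cancel₀ hf (this.trans (one_mul _).symm)
    rw [h2, map_one] at h1
    exact one_ne_zero h1

lemma exists_unit_factor (u : (K ⊗[k] A)ˣ) :
    ∃ (f : K) (w : (V ⊗[k] A)ˣ), f ≠ 0 ∧ (u : K ⊗[k] A) = (f ⊗ₜ[k] 1) * incl V (w : V ⊗[k] A) := by
  have hdom : IsDomain (IsLocalRing.ResidueField V ⊗[k] A) := isDomain_tensor k _ A
  have hdomK : IsDomain (K ⊗[k] A) := isDomain_tensor k K A
  obtain ⟨f, w, hf, hu, hw⟩ := exists_primitive V (u : K ⊗[k] A) u.ne_zero
  obtain ⟨g, w', hg, hu', hw'⟩ := exists_primitive V ((u⁻¹ : (K ⊗[k] A)ˣ) : K ⊗[k] A)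
    (u⁻¹).ne_zero
  have h1 : ((f * g) ⊗ₜ[k] (1 : A)) * incl V (w * w') = 1 := by
    have : (u : K ⊗[k] A) * ((u⁻¹ : (K ⊗[k] A)ˣ) : K ⊗[k] A) = 1 := u.mul_inv
    rw [hu, hu'] at this
    rw [map_mul, ← this]
    have h : ((f * g) ⊗ₜ[k] (1 : A)) = (f ⊗ₜ[k] 1) * (g ⊗ₜ[k] 1) := by
      rw [Algebra.TensorProduct.tmul_mul_tmul, mul_one]
    rw [h]
    ring
  have hfg : f * g ≠ 0 := mul_ne_zero hf hg
  have hw2 : ∃ w'' : V ⊗[k] A, w * w'' = 1 := by
    rcases V.mem_or_inv_mem (f * g) with hc | hc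
    · refine ⟨w' * ((⟨f * g, hc⟩ : V) ⊗ₜ[k] 1), ?_⟩
      apply incl_injective V
      rw [map_one, ← h1, ← mul_assoc, map_mul (incl V) (w * w'), mul_comm]
      congr 1
    · have h2 : incl V (w * w') = (f * g)⁻¹ ⊗ₜ[k] (1 : A) := by
        have := congrArg (fun z => ((f * g)⁻¹ ⊗ₜ[k] (1 : A)) * z) h1
        simp only [← mul_assoc, Algebra.TensorProduct.tmul_mul_tmul, inv_mul_cancel₀ hfg, mul_one]
          at this
        rw [← this]
        rw [show ((1 : K) ⊗ₜ[k] (1 : A)) = 1 from rfl, one_mul]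
      let cV : V := ⟨(f * g)⁻¹, hc⟩
      have h3 : w * w' = cV ⊗ₜ[k] 1 := by
        apply incl_injective V
        rw [h2]
        rfl
      have h4 : red V (w * w') ≠ 0 := by
        rw [map_mul]
        exact mul_ne_zero hw hw'
      have h5 : IsUnit cV := by
        by_contra hcu
        apply h4
        rw [h3, red, Algebra.TensorProduct.map_tmul]
        have : (IsScalarTower.toAlgHom k V (IsLocalRing.ResidueField V)) cV = 0 := by
          rw [IsScalarTower.coe_toAlgHom']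
          exact (IsLocalRing.residue_eq_zero_iff _).mpr ((IsLocalRing.mem_maximalIdeal _).mpr hcu)
        rw [this, zero_tmul]
      obtain ⟨cu, hcu⟩ := h5
      refine ⟨w' * (((cu⁻¹ : Vˣ) : V) ⊗ₜ[k] 1), ?_⟩
      rw [← mul_assoc, h3, ← hcu, Algebra.TensorProduct.tmul_mul_tmul, Units.mul_inv, mul_one]
      rfl
  obtain ⟨w'', hw''⟩ := hw2
  exact ⟨f, ⟨w, w'', hw'', by rw [mul_comm]; exact hw''⟩, hf, hu⟩

end Val

section Main

variable {k : Type*} [Field k] [IsAlgClosed k] {K : Type*} [Field K] [Algebra k K]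
  {A : Type*} [CommRing A] [Algebra k A] [Algebra.FiniteType k A] [IsDomain A]

omit [Algebra.FiniteType k A] [IsDomain A] in
lemma mem_range_of_forall_valuationSubring (x : K)
    (h : ∀ V : ValuationSubring K, (algebraMap k K).range ≤ V.toSubring → x ∈ V) :
    x ∈ (algebraMap k K).range := by
  by_contra hx
  let R : Subring K := (algebraMap k K).range
  let : Algebra k R := (algebraMap k K).rangeRestrict.toAlgebra
  have : IsScalarTower k R K := IsScalarTower.of_algebraMap_eq (fun x => rfl)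
  have : IsIntegrallyClosedIn R K := by
    rw [Subring.isIntegrallyClosedIn_iff]
    intro y hy
    have : Algebra.IsIntegral k R :=
      Algebra.isIntegral_of_surjective (algebraMap k K).rangeRestrict_surjective
    have hy' : IsIntegral k y := isIntegral_trans y hy
    exact minpoly.mem_range_of_degree_eq_one k y
      (IsAlgClosed.degree_eq_one_of_irreducible k (minpoly.irreducible hy'))
  obtain ⟨V, hV, hxV⟩ := Subring.exists_le_valuationSubring_of_isIntegrallyClosedIn (R := R) hx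
  exact hxV (h V hV)

lemma coord_mem_of_unit {ι : Type*} (b : Module.Basis ι k A) (y0 : A →ₐ[k] k) (v : (K ⊗[k] A)ˣ)
    (V : ValuationSubring K) (hV : (algebraMap k K).range ≤ V.toSubring) (i : ι) :
    coordL b K i (((evalRight y0 (v : K ⊗[k] A))⁻¹ ⊗ₜ[k] (1 : A)) * (v : K ⊗[k] A)) ∈ V := by
  let : Algebra k V :=
    ((algebraMap k K).codRestrict V.toSubring (fun x => hV ⟨x, rfl⟩)).toAlgebra
  have : IsScalarTower k V K := IsScalarTower.of_algebraMap_eq (fun x => rfl)
  obtain ⟨f, w, hf, hv⟩ := exists_unit_factor V v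
  have he : IsUnit (evalRight y0 (w : V ⊗[k] A)) := w.isUnit.map (evalRight (L := V) y0)
  obtain ⟨e, he⟩ := he
  have h1 : evalRight y0 (v : K ⊗[k] A) = f * ((e : V) : K) := by
    rw [hv, map_mul, incl, evalRight_map, ← he]
    simp
  have h2 : ((evalRight y0 (v : K ⊗[k] A))⁻¹ ⊗ₜ[k] (1 : A)) * (v : K ⊗[k] A) =
      incl V ((((e⁻¹ : Vˣ) : V) ⊗ₜ[k] (1 : A)) * (w : V ⊗[k] A)) := by
    have hee : (((e⁻¹ : Vˣ) : V) : K) = ((e : V) : K)⁻¹ := by
      have : (((e⁻¹ : Vˣ) : V) : K) * ((e : V) : K) = 1 := by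
        rw [← MulMemClass.coe_mul, Units.inv_mul]
        rfl
      exact eq_inv_of_mul_eq_one_left this
    rw [h1, map_mul, hv, ← mul_assoc]
    congr 1
    simp only [incl, Algebra.TensorProduct.map_tmul, IsScalarTower.coe_toAlgHom', AlgHom.coe_id,
      id_eq, Algebra.TensorProduct.tmul_mul_tmul, mul_one]
    congr 1
    change _ = (((e⁻¹ : Vˣ) : V) : K)
    rw [hee, mul_inv, mul_comm, ← mul_assoc, mul_inv_cancel₀ hf, one_mul]
  rw [h2, incl, coordL_map]
  exact Subtype.property _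

omit [IsAlgClosed k] [Algebra.FiniteType k A] [IsDomain A] in
lemma exists_eq_one_tmul {ι : Type*} (b : Module.Basis ι k A) (z : K ⊗[k] A)
    (hz : ∀ i, coordL b K i z ∈ (algebraMap k K).range) : ∃ a : A, z = 1 ⊗ₜ[k] a := by
  classical
  obtain ⟨c, rfl⟩ := TensorProduct.eq_repr_basis_right b z
  choose γ hγ using hz
  refine ⟨∑ i ∈ c.support, γ i • b i, ?_⟩
  rw [Finsupp.sum, TensorProduct.tmul_sum]
  refine Finset.sum_congr rfl fun i hi => ?_
  have := hγ i
  rw [Finsupp.sum, coordL_sum b K c.support (fun j => c j) i hi] at this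
  rw [← this, TensorProduct.tmul_smul, Algebra.algebraMap_eq_smul_one, TensorProduct.smul_tmul']

theorem exists_eq_tmul (u : (K ⊗[k] A)ˣ) :
    ∃ (g : K) (h : A), g ≠ 0 ∧ IsUnit h ∧ (u : K ⊗[k] A) = g ⊗ₜ[k] h := by
  classical
  obtain ⟨y0⟩ : Nonempty (A →ₐ[k] k) := nonempty_algHom k
  have hdomK : IsDomain (K ⊗[k] A) := isDomain_tensor k K A
  let b := Module.Free.chooseBasis k A
  have hg0u : IsUnit (evalRight y0 (u : K ⊗[k] A)) := u.isUnit.map (evalRight (L := K) y0)
  have hg0ne : evalRight y0 (u : K ⊗[k] A) ≠ 0 := hg0u.ne_zero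
  have hinv : evalRight y0 ((u⁻¹ : (K ⊗[k] A)ˣ) : K ⊗[k] A) = (evalRight y0 (u : K ⊗[k] A))⁻¹ := by
    apply eq_inv_of_mul_eq_one_left
    rw [← map_mul, Units.inv_mul, map_one]
  obtain ⟨h, hh⟩ := exists_eq_one_tmul b
    (((evalRight y0 (u : K ⊗[k] A))⁻¹ ⊗ₜ[k] (1 : A)) * (u : K ⊗[k] A))
    (fun i => mem_range_of_forall_valuationSubring _ fun V hV => coord_mem_of_unit b y0 u V hV i)
  obtain ⟨h', hh'⟩ := exists_eq_one_tmul b
    (((evalRight y0 ((u⁻¹ : (K ⊗[k] A)ˣ) : K ⊗[k] A))⁻¹ ⊗ₜ[k] (1 : A)) *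
      ((u⁻¹ : (K ⊗[k] A)ˣ) : K ⊗[k] A))
    (fun i => mem_range_of_forall_valuationSubring _ fun V hV => coord_mem_of_unit b y0 u⁻¹ V hV i)
  have hprod : (1 : K) ⊗ₜ[k] (h * h') = 1 ⊗ₜ[k] (1 : A) := by
    have : ((1 : K) ⊗ₜ[k] h) * ((1 : K) ⊗ₜ[k] h') = 1 := by
      rw [← hh, ← hh', hinv, inv_inv]
      have h1 : (u : K ⊗[k] A) * ((u⁻¹ : (K ⊗[k] A)ˣ) : K ⊗[k] A) = 1 := u.mul_inv
      calc _ = (((evalRight y0 (u : K ⊗[k] A))⁻¹ ⊗ₜ[k] (1 : A)) *
              ((evalRight y0 (u : K ⊗[k] A)) ⊗ₜ[k] (1 : A))) *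
              ((u : K ⊗[k] A) * ((u⁻¹ : (K ⊗[k] A)ˣ) : K ⊗[k] A)) := by ring
        _ = 1 := by
          rw [h1, mul_one, Algebra.TensorProduct.tmul_mul_tmul, inv_mul_cancel₀ hg0ne, mul_one]
          rfl
    rw [Algebra.TensorProduct.tmul_mul_tmul, mul_one] at this
    exact this
  have hinj : Function.Injective (Algebra.TensorProduct.includeRight : A →ₐ[k] K ⊗[k] A) :=
    Algebra.TensorProduct.includeRight_injective (FaithfulSMul.algebraMap_injective k K)
  have hunit : h * h' = 1 := hinj hprod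
  refine ⟨evalRight y0 (u : K ⊗[k] A), h, hg0ne, IsUnit.of_mul_eq_one _ hunit, ?_⟩
  have : (u : K ⊗[k] A) = ((evalRight y0 (u : K ⊗[k] A)) ⊗ₜ[k] (1 : A)) *
      (((evalRight y0 (u : K ⊗[k] A))⁻¹ ⊗ₜ[k] (1 : A)) * (u : K ⊗[k] A)) := by
    rw [← mul_assoc, Algebra.TensorProduct.tmul_mul_tmul, mul_inv_cancel₀ hg0ne, mul_one]
    exact (one_mul _).symm
  rw [hh] at this
  exact this.trans (by rw [Algebra.TensorProduct.tmul_mul_tmul, mul_one, one_mul])

end Main

end Groth.Agent.Lib.Helper32.Rosenlicht
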