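import Mathlib
import Groth.Agent.Lib.Helper32.Rosenlicht.Units

open TensorProduct CategoryTheory Limits

universe u

namespace Groth.Agent.Lib.Helper32.Rosenlicht

section Tensor

variable {k : Type*} [Field k] [IsAlgClosed k] {R : Type*} [CommRing R] [IsDomain R] [Algebra k R]
  {A : Type*} [CommRing A] [Algebra k A] [Algebra.FiniteType k A] [IsDomain A]

theorem exists_eq_tmul_of_isUnit (u : R ⊗[k] A) (hu : IsUnit u) :
    ∃ (G : R) (H : A), IsUnit G ∧ IsUnit H ∧ u = G ⊗ₜ[k] H := by
  obtain ⟨y0⟩ : Nonempty (A →ₐ[k] k) := nonempty_algHom k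
  let K := FractionRing R
  let j : R ⊗[k] A →ₐ[k] K ⊗[k] A :=
    Algebra.TensorProduct.map (IsScalarTower.toAlgHom k R K) (AlgHom.id k A)
  have hj : Function.Injective j := by
    have : Function.Injective ((IsScalarTower.toAlgHom k R K).toLinearMap.rTensor A) :=
      Module.Flat.rTensor_preserves_injective_linearMap _ (IsFractionRing.injective R _)
    exact this
  obtain ⟨g, h, hg, hh, hgh⟩ := exists_eq_tmul (Units.map (j : R ⊗[k] A →* K ⊗[k] A) hu.unit)
  replace hgh : j u = g ⊗ₜ[k] h := hgh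
  have hG : IsUnit (evalRight y0 u) := hu.map (evalRight (L := R) y0)
  have hy : y0 h ≠ 0 := (hh.map y0).ne_zero
  have h1 : algebraMap R K (evalRight y0 u) = g * algebraMap k K (y0 h) := by
    have := evalRight_map (IsScalarTower.toAlgHom k R K) y0 u
    rw [IsScalarTower.coe_toAlgHom'] at this
    rw [← this]
    change evalRight y0 (j u) = _
    rw [hgh, evalRight_tmul]
  refine ⟨evalRight y0 u, (y0 h)⁻¹ • h, hG, ?_, ?_⟩
  · exact (hh.smul (Units.mk0 _ (inv_ne_zero hy)) : IsUnit ((Units.mk0 _ (inv_ne_zero hy)) • h))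
  · apply hj
    rw [hgh]
    change _ = Algebra.TensorProduct.map (IsScalarTower.toAlgHom k R K) (AlgHom.id k A) _
    rw [Algebra.TensorProduct.map_tmul, IsScalarTower.coe_toAlgHom', h1, AlgHom.coe_id, id_eq,
      TensorProduct.tmul_smul, TensorProduct.smul_tmul', Algebra.smul_def, mul_comm g, ← mul_assoc,
      ← map_mul, inv_mul_cancel₀ hy, map_one, one_mul]

end Tensor

section Pushout

variable {k : Type u} [Field k] [IsAlgClosed k] {R A P : CommRingCat.{u}}
  (f : CommRingCat.of k ⟶ R) (g : CommRingCat.of k ⟶ A) (i1 : R ⟶ P) (i2 : A ⟶ P)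

theorem isDomain_of_isPushout (h : IsPushout f g i1 i2) [IsDomain R] [IsDomain A]
    (hA : g.hom.FiniteType) : IsDomain P := by
  let : Algebra k R := f.hom.toAlgebra
  let : Algebra k A := g.hom.toAlgebra
  have : Algebra.FiniteType k A := hA
  have hdom : IsDomain (R ⊗[k] A) := isDomain_tensor_of_isDomain k R A
  have h' := CommRingCat.isPushout_tensorProduct k R A
  let e := h'.isoIsPushout _ _ h
  exact e.commRingCatIsoToRingEquiv.toMulEquiv.isDomain_iff.mp hdom

theorem exists_eq_mul_of_isPushout (h : IsPushout f g i1 i2) [IsDomain R] [IsDomain A]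
    (hA : g.hom.FiniteType) (u : P) (hu : IsUnit u) :
    ∃ (G : R) (H : A), IsUnit G ∧ IsUnit H ∧ u = i1 G * i2 H := by
  let : Algebra k R := f.hom.toAlgebra
  let : Algebra k A := g.hom.toAlgebra
  have : Algebra.FiniteType k A := hA
  have h' := CommRingCat.isPushout_tensorProduct k R A
  let e := h'.isoIsPushout _ _ h
  have hu' : IsUnit (e.inv u) := hu.map e.inv.hom
  obtain ⟨G, H, hG, hH, hGH⟩ := exists_eq_tmul_of_isUnit (k := k) (e.inv u) hu'
  refine ⟨G, H, hG, hH, ?_⟩
  have h1 : u = e.hom (e.inv u) := by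
    rw [← CommRingCat.comp_apply, Iso.inv_hom_id]
    rfl
  have h2 : e.hom (G ⊗ₜ[k] (1 : A)) = i1 G :=
    ConcreteCategory.congr_hom (h'.inl_isoIsPushout_hom _ _ h) G
  have h3 : e.hom ((1 : R) ⊗ₜ[k] H) = i2 H :=
    ConcreteCategory.congr_hom (h'.inr_isoIsPushout_hom _ _ h) H
  rw [h1, hGH, ← h2, ← h3, ← map_mul, Algebra.TensorProduct.tmul_mul_tmul, mul_one, one_mul]

end Pushout

end Groth.Agent.Lib.Helper32.Rosenlicht
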