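import Mathlib
import Groth.Agent.Lib.Helper32.Rosenlicht.Product
import Groth.Agent.Lib.Helper72.GrpComp

open CategoryTheory Limits AlgebraicGeometry

universe u

namespace Groth.Agent.Lib.Helper32.Rosenlicht

variable {k : Type u} [Field k]

abbrev KPt {X : Scheme.{u}} (p : X ⟶ Spec (.of k)) : Type u :=
  {x : Spec (.of k) ⟶ X // x ≫ p = 𝟙 _}

noncomputable def KPt.pt {X : Scheme.{u}} {p : X ⟶ Spec (.of k)} (x : KPt p) : X := x.1 default

lemma KPt.range_subset {X : Scheme.{u}} {p : X ⟶ Spec (.of k)} (x : KPt p) {C : Set X}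
    (h : x.pt ∈ C) : Set.range x.1 ⊆ C := by
  rintro _ ⟨z, rfl⟩
  rw [Unique.eq_default z]
  exact h

variable [IsAlgClosed k]

theorem eq_of_forall_kpt {P : Scheme.{u}} (r : P ⟶ Spec (.of k)) [LocallyOfFiniteType r]
    [IsReduced P] (s t : Γ(P, ⊤)) (h : ∀ c : KPt r, c.1.appTop s = c.1.appTop t) : s = t := by
  have : JacobsonSpace P := LocallyOfFiniteType.jacobsonSpace r
  rw [← sub_eq_zero, ← basicOpen_eq_bot_iff]
  by_contra hne
  have hne' : ((P.basicOpen (s - t) : P.Opens) : Set P).Nonempty := by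
    rw [Set.nonempty_iff_ne_empty]
    intro h0
    apply hne
    ext1
    exact h0
  obtain ⟨z, hz, hzc⟩ := nonempty_inter_closedPoints hne'
    (P.basicOpen (s - t)).isOpen.isLocallyClosed
  let c : KPt r := ⟨pointOfClosedPoint r z hzc, pointOfClosedPoint_comp r z hzc⟩
  have h0 : c.1.appTop (s - t) = 0 := by rw [map_sub, h c, sub_self]
  have h1 : (default : Spec (.of k)) ∈ c.1 ⁻¹ᵁ P.basicOpen (s - t) := by
    change c.1 default ∈ P.basicOpen (s - t)
    rw [pointOfClosedPoint_apply]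
    exact hz
  rw [Scheme.preimage_basicOpen_top, h0, Scheme.basicOpen_zero] at h1
  exact h1

theorem const_of_const_on_components {X : Scheme.{u}} (p : X ⟶ Spec (.of k))
    [LocallyOfFiniteType p] [QuasiCompact p] [ConnectedSpace X] {α : Type*} (φ : KPt p → α)
    (h : ∀ C ∈ irreducibleComponents X, ∀ x x' : KPt p, x.pt ∈ C → x'.pt ∈ C → φ x = φ x')
    (x x' : KPt p) : φ x = φ x' := by
  have : JacobsonSpace X := LocallyOfFiniteType.jacobsonSpace p
  have : IsLocallyNoetherian X := LocallyOfFiniteType.isLocallyNoetherian p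
  have : CompactSpace X := QuasiCompact.compactSpace_of_compactSpace p
  have : IsNoetherian X := {}
  have hfin : (irreducibleComponents X).Finite :=
    TopologicalSpace.NoetherianSpace.finite_irreducibleComponents
  suffices H : ∀ x0 x : KPt p, φ x0 = φ x from H x x'
  intro x0 x
  let good : Set X → Prop := fun C => ∀ x : KPt p, x.pt ∈ C → φ x0 = φ x
  let A : Set X := ⋃ C ∈ {C | C ∈ irreducibleComponents X ∧ good C}, C
  let B : Set X := ⋃ C ∈ {C | C ∈ irreducibleComponents X ∧ ¬ good C}, C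
  have hA : IsClosed A := (hfin.subset fun C hC => hC.1).isClosed_biUnion
    fun C hC => isClosed_of_mem_irreducibleComponents C hC.1
  have hB : IsClosed B := (hfin.subset fun C hC => hC.1).isClosed_biUnion
    fun C hC => isClosed_of_mem_irreducibleComponents C hC.1
  have hAB : ∀ z, z ∈ A ∨ z ∈ B := by
    intro z
    by_cases hg : good (irreducibleComponent z)
    · exact Or.inl (Set.mem_iUnion₂.mpr ⟨irreducibleComponent z,
        ⟨irreducibleComponent_mem_irreducibleComponents z, hg⟩, mem_irreducibleComponent⟩)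
    · exact Or.inr (Set.mem_iUnion₂.mpr ⟨irreducibleComponent z,
        ⟨irreducibleComponent_mem_irreducibleComponents z, hg⟩, mem_irreducibleComponent⟩)
  have hdisj : ∀ z, z ∈ A → z ∈ B → False := by
    intro z hzA hzB
    obtain ⟨C, ⟨hC, hCg⟩, hzC⟩ := Set.mem_iUnion₂.mp hzA
    obtain ⟨C', ⟨hC', hCg'⟩, hzC'⟩ := Set.mem_iUnion₂.mp hzB
    apply hCg'
    have hcl : IsClosed (C ∩ C') := (isClosed_of_mem_irreducibleComponents C hC).inter
      (isClosed_of_mem_irreducibleComponents C' hC')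
    obtain ⟨z1, ⟨hz1C, hz1C'⟩, hz1⟩ := nonempty_inter_closedPoints (Z := C ∩ C')
      ⟨z, hzC, hzC'⟩ hcl.isLocallyClosed
    let x1 : KPt p := ⟨pointOfClosedPoint p z1 hz1, pointOfClosedPoint_comp p z1 hz1⟩
    have hx1 : x1.pt = z1 := pointOfClosedPoint_apply p z1 hz1 _
    intro y hy
    rw [hCg x1 (hx1 ▸ hz1C)]
    exact h C' hC' x1 y (hx1 ▸ hz1C') hy
  have hAclopen : IsClopen A := by
    refine ⟨hA, ?_⟩
    have : A = Bᶜ := by
      ext z
      constructor
      · intro hzA hzB
        exact hdisj z hzA hzB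
      · intro hzB
        exact (hAB z).resolve_right hzB
    rw [this]
    exact hB.isOpen_compl
  have hx0A : x0.pt ∈ A := by
    refine Set.mem_iUnion₂.mpr ⟨irreducibleComponent x0.pt,
      ⟨irreducibleComponent_mem_irreducibleComponents x0.pt, ?_⟩, mem_irreducibleComponent⟩
    intro y hy
    exact h _ (irreducibleComponent_mem_irreducibleComponents x0.pt) x0 y
      mem_irreducibleComponent hy
  have hAuniv : A = Set.univ := by
    rcases isClopen_iff.mp hAclopen with h0 | h0
    · rw [h0] at hx0A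
      exact absurd hx0A (Set.notMem_empty _)
    · exact h0
  have hxA : x.pt ∈ A := hAuniv ▸ Set.mem_univ _
  obtain ⟨C, ⟨-, hCg⟩, hxC⟩ := Set.mem_iUnion₂.mp hxA
  exact hCg x hxC

omit [IsAlgClosed k] in
theorem exists_component_scheme {X : Scheme.{u}} (p : X ⟶ Spec (.of k))
    (C : Set X) (hC : C ∈ irreducibleComponents X) :
    ∃ (XC : Scheme.{u}) (j : XC ⟶ X), IsClosedImmersion j ∧ IsIntegral XC ∧
      ∀ x : KPt p, x.pt ∈ C → ∃ g : KPt (j ≫ p), g.1 ≫ j = x.1 := by
  obtain ⟨XC, j, hj, hred, hrange, hlift⟩ :=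
    Groth.Agent.Lib.Helper72.GrpComp.exists_reduced_closedSubscheme C
      (isClosed_of_mem_irreducibleComponents C hC)
  have hirr : IrreducibleSpace XC :=
    Groth.Agent.Lib.Helper72.GrpComp.irreducibleSpace_of_range j (hrange ▸ hC.1)
  refine ⟨XC, j, hj, (isIntegral_iff_irreducibleSpace_and_isReduced _).mpr ⟨hirr, hred⟩, ?_⟩
  intro x hx
  obtain ⟨g, hg⟩ := hlift x.1 (x.range_subset hx)
  exact ⟨⟨g, by rw [← Category.assoc, hg, x.2]⟩, hg⟩

end Groth.Agent.Lib.Helper32.Rosenlicht
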