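import Mathlib
import Groth.Agent.Lib.Helper32.Rosenlicht.Chain

open CategoryTheory Limits AlgebraicGeometry

universe u

namespace Groth.Agent.Lib.Helper32.Rosenlicht

variable {k : Type u} [Field k] [IsAlgClosed k]

section

variable {X Y : Scheme.{u}} (p : X ⟶ Spec (.of k)) (q : Y ⟶ Spec (.of k))

noncomputable def pairPt (x : KPt p) (y : KPt q) : Spec (.of k) ⟶ pullback p q :=
  pullback.lift x.1 y.1 (by rw [x.2, y.2])

omit [IsAlgClosed k] in
lemma pairPt_fst (x : KPt p) (y : KPt q) : pairPt p q x y ≫ pullback.fst p q = x.1 :=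
  pullback.lift_fst _ _ _

omit [IsAlgClosed k] in
lemma pairPt_snd (x : KPt p) (y : KPt q) : pairPt p q x y ≫ pullback.snd p q = y.1 :=
  pullback.lift_snd _ _ _

noncomputable def evalU (w : Γ(pullback p q, ⊤)) (hw : IsUnit w) (x : KPt p) (y : KPt q) :
    (Γ(Spec (.of k), ⊤))ˣ :=
  (hw.map (pairPt p q x y).appTop.hom).unit

omit [IsAlgClosed k] in
lemma evalU_val (w : Γ(pullback p q, ⊤)) (hw : IsUnit w) (x : KPt p) (y : KPt q) :
    (evalU p q w hw x y : Γ(Spec (.of k), ⊤)) = (pairPt p q x y).appTop w := rfl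

theorem evalU_four_point [LocallyOfFiniteType p] [LocallyOfFiniteType q]
    (w : Γ(pullback p q, ⊤)) (hw : IsUnit w)
    (C : Set X) (hC : C ∈ irreducibleComponents X) (D : Set Y) (hD : D ∈ irreducibleComponents Y)
    (x x' : KPt p) (hx : x.pt ∈ C) (hx' : x'.pt ∈ C) (y y' : KPt q) (hy : y.pt ∈ D)
    (hy' : y'.pt ∈ D) :
    evalU p q w hw x y * evalU p q w hw x' y' = evalU p q w hw x y' * evalU p q w hw x' y := by
  obtain ⟨XC, jC, _, _, hliftC⟩ := exists_component_scheme p C hC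
  obtain ⟨YD, jD, _, _, hliftD⟩ := exists_component_scheme q D hD
  obtain ⟨gx, hgx⟩ := hliftC x hx
  obtain ⟨gx', hgx'⟩ := hliftC x' hx'
  obtain ⟨gy, hgy⟩ := hliftD y hy
  obtain ⟨gy', hgy'⟩ := hliftD y' hy'
  let θ : pullback (jC ≫ p) (jD ≫ q) ⟶ pullback p q :=
    pullback.map (jC ≫ p) (jD ≫ q) p q jC jD (𝟙 _) (by simp) (by simp)
  obtain ⟨g, h, -, -, hgh⟩ := exists_units_of_isUnit (jC ≫ p) (jD ≫ q) (θ.appTop w)
    (hw.map θ.appTop.hom)
  have key : ∀ (a : KPt p) (b : KPt q) (ga : KPt (jC ≫ p)) (gb : KPt (jD ≫ q)),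
      ga.1 ≫ jC = a.1 → gb.1 ≫ jD = b.1 →
      (evalU p q w hw a b : Γ(Spec (.of k), ⊤)) = ga.1.appTop g * gb.1.appTop h := by
    intro a b ga gb ha hb
    have e : pairPt p q a b = pairPt (jC ≫ p) (jD ≫ q) ga gb ≫ θ := by
      apply pullback.hom_ext
      · rw [pairPt_fst, Category.assoc, pullback.lift_fst, ← Category.assoc, pairPt_fst, ha]
      · rw [pairPt_snd, Category.assoc, pullback.lift_snd, ← Category.assoc, pairPt_snd, hb]
    rw [evalU_val, e, ← appTop_appTop, hgh, map_mul, appTop_appTop, appTop_appTop, pairPt_fst,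
      pairPt_snd]
  apply Units.ext
  rw [Units.val_mul, Units.val_mul, key x y gx gy hgx hgy, key x' y' gx' gy' hgx' hgy',
    key x y' gx gy' hgx hgy', key x' y gx' gy hgx' hgy]
  ring

theorem eq_one_of_axes_algClosed [LocallyOfFiniteType p] [QuasiCompact p]
    [LocallyOfFiniteType q] [QuasiCompact q] [ConnectedSpace X] [ConnectedSpace Y]
    [IsReduced (pullback p q)] (x0 : KPt p) (y0 : KPt q)
    (w : Γ(pullback p q, ⊤)) (hw : IsUnit w)
    (h1 : ∀ x : KPt p, (pairPt p q x y0).appTop w = 1)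
    (h2 : ∀ y : KPt q, (pairPt p q x0 y).appTop w = 1) : w = 1 := by
  have h1' : ∀ x : KPt p, evalU p q w hw x y0 = 1 := fun x => Units.ext (h1 x)
  have h2' : ∀ y : KPt q, evalU p q w hw x0 y = 1 := fun y => Units.ext (h2 y)
  have hX : ∀ x x' : KPt p, (fun y => evalU p q w hw x y) = (fun y => evalU p q w hw x' y) := by
    apply const_of_const_on_components p (fun x => fun y => evalU p q w hw x y)
    intro C hC x x' hx hx'
    funext y
    have hY : ∀ y y' : KPt q,
        evalU p q w hw x y * (evalU p q w hw x' y)⁻¹ =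
          evalU p q w hw x y' * (evalU p q w hw x' y')⁻¹ := by
      apply const_of_const_on_components q
        (fun y => evalU p q w hw x y * (evalU p q w hw x' y)⁻¹)
      intro D hD y y' hy hy'
      have := evalU_four_point p q w hw C hC D hD x x' hx hx' y y' hy hy'
      rw [mul_inv_eq_iff_eq_mul, mul_assoc, mul_comm _ (evalU p q w hw x' y), ← mul_assoc,
        eq_mul_inv_iff_mul_eq]
      exact this
    have := hY y y0
    rw [h1' x, h1' x', inv_one, mul_one, mul_inv_eq_one] at this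
    exact this
  have hall : ∀ (x : KPt p) (y : KPt q), evalU p q w hw x y = 1 := by
    intro x y
    rw [congrFun (hX x x0) y, h2' y]
  have : LocallyOfFiniteType (pullback.fst p q ≫ p) := inferInstance
  apply eq_of_forall_kpt (pullback.fst p q ≫ p)
  intro c
  have hcx : (c.1 ≫ pullback.fst p q) ≫ p = 𝟙 _ := by rw [Category.assoc, c.2]
  have hcy : (c.1 ≫ pullback.snd p q) ≫ q = 𝟙 _ := by
    rw [Category.assoc, ← pullback.condition, c.2]
  have hc : c.1 = pairPt p q ⟨c.1 ≫ pullback.fst p q, hcx⟩ ⟨c.1 ≫ pullback.snd p q, hcy⟩ := by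
    apply pullback.hom_ext
    · rw [pairPt_fst]
    · rw [pairPt_snd]
  rw [hc, map_one]
  exact congrArg Units.val (hall _ _)

end

end Groth.Agent.Lib.Helper32.Rosenlicht
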