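import Mathlib
import Groth.Agent.Lib.Helper32.Rosenlicht.Axes

open CategoryTheory Limits AlgebraicGeometry

universe u

namespace Groth.Agent.Lib.Helper32.Rosenlicht

section

variable {S S' X Y : Scheme.{u}} (p : X ⟶ S) (q : Y ⟶ S) (φ : S' ⟶ S)

noncomputable abbrev bcMap : pullback (pullback.snd p φ) (pullback.snd q φ) ⟶ pullback p q :=
  pullback.map _ _ _ _ (pullback.fst p φ) (pullback.fst q φ) φ pullback.condition.symm
    pullback.condition.symm

lemma bcMap_isPullback :
    IsPullback (bcMap p q φ) (pullback.fst _ _ ≫ pullback.snd p φ) (pullback.fst p q ≫ p) φ := by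
  have s1 : IsPullback (pullback.snd (pullback.snd p φ) (pullback.snd q φ) ≫ pullback.fst q φ)
      (pullback.fst (pullback.snd p φ) (pullback.snd q φ)) q (pullback.snd p φ ≫ φ) :=
    (IsPullback.of_hasPullback (pullback.snd p φ) (pullback.snd q φ)).flip.paste_horiz
      (IsPullback.of_hasPullback q φ)
  have s2 : IsPullback (bcMap p q φ) (pullback.fst _ _) (pullback.fst p q) (pullback.fst p φ) := by
    refine IsPullback.of_right ?_ ?_ (IsPullback.of_hasPullback p q).flip
    · have e1 : bcMap p q φ ≫ pullback.snd p q = pullback.snd _ _ ≫ pullback.fst q φ :=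
        pullback.lift_snd _ _ _
      rw [e1, pullback.condition]
      exact s1
    · exact pullback.lift_fst _ _ _
  exact s2.paste_vert (IsPullback.of_hasPullback p φ)

lemma bcMap_appTop_injective [QuasiCompact φ] [IsSchemeTheoreticallyDominant φ]
    [Flat (pullback.fst p q ≫ p)] : Function.Injective (bcMap p q φ).appTop := by
  have H := (bcMap_isPullback p q φ).flip
  have : IsSchemeTheoreticallyDominant (bcMap p q φ) := .of_isPullback H
  have : QuasiCompact (bcMap p q φ) := MorphismProperty.of_isPullback H ‹_›
  exact (bcMap p q φ).app_injective ⊤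

end

section

variable {k : Type u} [Field k] {X Y : Scheme.{u}} (p : X ⟶ Spec (.of k)) (q : Y ⟶ Spec (.of k))

theorem eq_one_of_axes
    [LocallyOfFiniteType p] [QuasiCompact p] [GeometricallyReduced p] [GeometricallyConnected p]
    [LocallyOfFiniteType q] [QuasiCompact q] [GeometricallyReduced q] [GeometricallyConnected q]
    (x0 : KPt p) (y0 : KPt q) (w : Γ(pullback p q, ⊤)) (hw : IsUnit w)
    (σ : X ⟶ pullback p q) (hσ1 : σ ≫ pullback.fst p q = 𝟙 X)
    (hσ2 : σ ≫ pullback.snd p q = p ≫ y0.1)
    (τ : Y ⟶ pullback p q) (hτ1 : τ ≫ pullback.fst p q = q ≫ x0.1)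
    (hτ2 : τ ≫ pullback.snd p q = 𝟙 Y)
    (h1 : σ.appTop w = 1) (h2 : τ.appTop w = 1) : w = 1 := by
  let K := AlgebraicClosure k
  let φ : Spec (.of K) ⟶ Spec (.of k) := Spec.map (CommRingCat.ofHom (algebraMap k K))
  have : Flat (pullback.fst p q ≫ p) := inferInstance
  have : IsSchemeTheoreticallyDominant φ := by
    have : Surjective φ := ⟨fun x => ⟨default, Subsingleton.elim _ _⟩⟩
    exact .of_isDominant φ
  have hinj := bcMap_appTop_injective p q φ
  apply hinj
  rw [map_one]
  have : ConnectedSpace ↑(pullback p φ) :=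
    GeometricallyConnected.connectedSpace_of_subsingleton (pullback.snd p φ)
  have : ConnectedSpace ↑(pullback q φ) :=
    GeometricallyConnected.connectedSpace_of_subsingleton (pullback.snd q φ)
  have : IsLocallyNoetherian ↑(pullback q φ) :=
    LocallyOfFiniteType.isLocallyNoetherian (pullback.snd q φ)
  have : IsReduced ↑(pullback q φ) :=
    GeometricallyReduced.isReduced_of_flat_of_isLocallyNoetherian (pullback.snd q φ)
  have : Flat (pullback.snd p φ) := inferInstance
  have : IsReduced ↑(pullback (pullback.snd p φ) (pullback.snd q φ)) := inferInstance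
  let x0' : KPt (pullback.snd p φ) :=
    ⟨pullback.lift (φ ≫ x0.1) (𝟙 _) (by rw [Category.assoc, x0.2, Category.comp_id,
      Category.id_comp]), pullback.lift_snd _ _ _⟩
  let y0' : KPt (pullback.snd q φ) :=
    ⟨pullback.lift (φ ≫ y0.1) (𝟙 _) (by rw [Category.assoc, y0.2, Category.comp_id,
      Category.id_comp]), pullback.lift_snd _ _ _⟩
  refine eq_one_of_axes_algClosed (pullback.snd p φ) (pullback.snd q φ) x0' y0' _
    (hw.map (bcMap p q φ).appTop.hom) ?_ ?_
  · intro x
    have e : pairPt (pullback.snd p φ) (pullback.snd q φ) x y0' ≫ bcMap p q φ =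
        (x.1 ≫ pullback.fst p φ) ≫ σ := by
      apply pullback.hom_ext
      · rw [Category.assoc, pullback.lift_fst, ← Category.assoc, pairPt_fst, Category.assoc, hσ1,
          Category.comp_id]
      · rw [Category.assoc, pullback.lift_snd, ← Category.assoc, pairPt_snd, Category.assoc, hσ2]
        change pullback.lift _ _ _ ≫ pullback.fst q φ = _
        rw [pullback.lift_fst, Category.assoc, pullback.condition_assoc,
          ← Category.assoc x.1, x.2, Category.id_comp]
    rw [appTop_appTop, e, ← appTop_appTop, h1, map_one]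
  · intro y
    have e : pairPt (pullback.snd p φ) (pullback.snd q φ) x0' y ≫ bcMap p q φ =
        (y.1 ≫ pullback.fst q φ) ≫ τ := by
      apply pullback.hom_ext
      · rw [Category.assoc, pullback.lift_fst, ← Category.assoc, pairPt_fst, Category.assoc, hτ1]
        change pullback.lift _ _ _ ≫ pullback.fst p φ = _
        rw [pullback.lift_fst, Category.assoc, pullback.condition_assoc,
          ← Category.assoc y.1, y.2, Category.id_comp]
      · rw [Category.assoc, pullback.lift_snd, ← Category.assoc, pairPt_snd, Category.assoc, hτ2,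
          Category.comp_id]
    rw [appTop_appTop, e, ← appTop_appTop, h2, map_one]

end

end Groth.Agent.Lib.Helper32.Rosenlicht
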