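import Mathlib
import Groth.Agent.Lib.Helper32.Rosenlicht.Product
import Groth.Agent.Lib.Helper72.GrpConn
import Groth.Agent.Lib.Helper30.SmoothReduced

open CategoryTheory Limits AlgebraicGeometry MonoidalCategory CartesianMonoidalCategory MonObj

universe u

namespace Groth.Agent.Lib.Helper32.Rosenlicht

theorem isIntegral_of_smooth_connected {k : Type u} [Field k] (G : Over (Spec (.of k))) [GrpObj G]
    [Smooth G.hom] [ConnectedSpace ↥G.left] : IsIntegral G.left := by
  have hred : IsReduced G.left :=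
    Groth.Agent.Lib.Helper30.SmoothReduced.isReduced_of_smooth_scheme G.hom
  have hirr : IrreducibleSpace ↥G.left := by
    have h0 := irreducibleComponent_mem_irreducibleComponents
      (Groth.Agent.Lib.Helper72.GrpComp.ePt G)
    have h1 := Groth.Agent.Lib.Helper72.GrpConn.connectedComponent_ePt G h0
      mem_irreducibleComponent
    rw [PreconnectedSpace.connectedComponent_eq_univ] at h1
    have h2 : IsIrreducible (Set.univ : Set G.left) := by
      rw [h1]
      exact isIrreducible_irreducibleComponent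
    exact (irreducibleSpace_def _).mpr h2
  exact (isIntegral_iff_irreducibleSpace_and_isReduced _).mpr ⟨hirr, hred⟩

theorem character_of_unit {k : Type u} [Field k] [IsAlgClosed k] (G : Over (Spec (.of k)))
    [GrpObj G] [IsIntegral G.left] [LocallyOfFiniteType G.hom]
    (f : Γ(G.left, ⊤)) (hf : IsUnit f) (he : η[G].left.appTop f = 1) :
    μ[G].left.appTop f = (fst G G).left.appTop f * (snd G G).left.appTop f := by
  obtain ⟨g, h, hg, hh, hgh⟩ := exists_units_of_isUnit G.hom G.hom (μ[G].left.appTop f)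
    (hf.map μ[G].left.appTop.hom)
  replace hgh : μ[G].left.appTop f = (fst G G).left.appTop g * (snd G G).left.appTop h := hgh
  let s1 : G ⟶ G ⊗ G := lift (𝟙 G) (toUnit G ≫ η[G])
  let s2 : G ⟶ G ⊗ G := lift (toUnit G ≫ η[G]) (𝟙 G)
  have h1 : s1.left ≫ μ[G].left = 𝟙 G.left := by
    rw [← Over.comp_left, lift_comp_one_right]
    rfl
  have h2 : s2.left ≫ μ[G].left = 𝟙 G.left := by
    rw [← Over.comp_left, lift_comp_one_left]
    rfl
  have h11 : s1.left ≫ (fst G G).left = 𝟙 G.left := by
    rw [← Over.comp_left, lift_fst]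
    rfl
  have h12 : s1.left ≫ (snd G G).left = G.hom ≫ η[G].left := by
    rw [← Over.comp_left, lift_snd]
    rfl
  have h21 : s2.left ≫ (fst G G).left = G.hom ≫ η[G].left := by
    rw [← Over.comp_left, lift_fst]
    rfl
  have h22 : s2.left ≫ (snd G G).left = 𝟙 G.left := by
    rw [← Over.comp_left, lift_snd]
    rfl
  have e1 : f = g * G.hom.appTop (η[G].left.appTop h) := by
    have := congrArg s1.left.appTop hgh
    rw [map_mul, appTop_appTop, appTop_appTop, appTop_appTop, h1, h11, h12, id_appTop_apply,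
      id_appTop_apply, ← appTop_appTop] at this
    exact this
  have e2 : f = G.hom.appTop (η[G].left.appTop g) * h := by
    have := congrArg s2.left.appTop hgh
    rw [map_mul, appTop_appTop, appTop_appTop, appTop_appTop, h2, h21, h22, id_appTop_apply,
      id_appTop_apply, ← appTop_appTop] at this
    exact this
  have hw : η[G].left ≫ G.hom = 𝟙 _ := Over.w η[G]
  have e3 : η[G].left.appTop g * η[G].left.appTop h = 1 := by
    have := congrArg η[G].left.appTop e1
    rw [he, map_mul, appTop_appTop _ G.hom, hw, id_appTop_apply] at this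
    exact this.symm
  have hcond : (snd G G).left ≫ G.hom = (fst G G).left ≫ G.hom := pullback.condition.symm
  calc μ[G].left.appTop f = (fst G G).left.appTop g * (snd G G).left.appTop h := hgh
    _ = (fst G G).left.appTop (g * G.hom.appTop (η[G].left.appTop h)) *
        (snd G G).left.appTop (G.hom.appTop (η[G].left.appTop g) * h) := by
      simp only [map_mul, appTop_appTop]
      rw [reassoc_of% hcond]
      have hπ : ((fst G G).left ≫ G.hom ≫ η[G].left).appTop h *
          ((fst G G).left ≫ G.hom ≫ η[G].left).appTop g = 1 := by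
        rw [← map_mul, ← Category.assoc, ← appTop_appTop, map_mul, mul_comm, e3, map_one]
      calc (fst G G).left.appTop g * (snd G G).left.appTop h
          = (fst G G).left.appTop g * (snd G G).left.appTop h *
            (((fst G G).left ≫ G.hom ≫ η[G].left).appTop h *
              ((fst G G).left ≫ G.hom ≫ η[G].left).appTop g) := by rw [hπ, _root_.mul_one]
        _ = _ := by ring
    _ = _ := by rw [← e1, ← e2]

theorem exists_character_mul {k : Type u} [Field k] [IsAlgClosed k] (G X : Over (Spec (.of k)))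
    [GrpObj G] [IsIntegral G.left] [LocallyOfFiniteType G.hom]
    [IsIntegral X.left] [LocallyOfFiniteType X.hom]
    (f : Γ((G ⊗ X).left, ⊤)) (hf : IsUnit f) :
    ∃ (χ : Γ(G.left, ⊤)) (u : Γ(X.left, ⊤)), IsUnit χ ∧ η[G].left.appTop χ = 1 ∧
      μ[G].left.appTop χ = (fst G G).left.appTop χ * (snd G G).left.appTop χ ∧ IsUnit u ∧
      f = (fst G X).left.appTop χ * (snd G X).left.appTop u := by
  obtain ⟨g, h, hg, hh, hgh⟩ := exists_units_of_isUnit G.hom X.hom f hf
  replace hgh : f = (fst G X).left.appTop g * (snd G X).left.appTop h := hgh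
  obtain ⟨cu, hcu⟩ : ∃ cu : (Γ(Spec (.of k), ⊤))ˣ,
      (cu : Γ(Spec (.of k), ⊤)) = η[G].left.appTop g := hg.map η[G].left.appTop.hom
  have hw : η[G].left ≫ G.hom = 𝟙 _ := Over.w η[G]
  have hχ1 : IsUnit (g * G.hom.appTop ((cu⁻¹ : Units _) : Γ(Spec (.of k), ⊤))) :=
    hg.mul ((cu⁻¹).isUnit.map G.hom.appTop.hom)
  have hχ2 : η[G].left.appTop (g * G.hom.appTop ((cu⁻¹ : Units _) : Γ(Spec (.of k), ⊤))) = 1 := by
    rw [map_mul, appTop_appTop, hw, id_appTop_apply, ← hcu, Units.mul_inv]
  have hcond : (snd G X).left ≫ X.hom = (fst G X).left ≫ G.hom := pullback.condition.symm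
  refine ⟨g * G.hom.appTop ((cu⁻¹ : Units _) : Γ(Spec (.of k), ⊤)),
    h * X.hom.appTop (cu : Γ(Spec (.of k), ⊤)), hχ1, hχ2, character_of_unit G _ hχ1 hχ2,
    hh.mul (cu.isUnit.map X.hom.appTop.hom), ?_⟩
  rw [hgh]
  simp only [map_mul, appTop_appTop]
  rw [hcond]
  have hπ : ((fst G X).left ≫ G.hom).appTop ((cu⁻¹ : Units _) : Γ(Spec (.of k), ⊤)) *
      ((fst G X).left ≫ G.hom).appTop (cu : Γ(Spec (.of k), ⊤)) = 1 := by
    rw [← map_mul, Units.inv_mul, map_one]
  calc (fst G X).left.appTop g * (snd G X).left.appTop h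
      = (fst G X).left.appTop g * (snd G X).left.appTop h *
        (((fst G X).left ≫ G.hom).appTop ((cu⁻¹ : Units _) : Γ(Spec (.of k), ⊤)) *
          ((fst G X).left ≫ G.hom).appTop (cu : Γ(Spec (.of k), ⊤))) := by
        rw [hπ, _root_.mul_one]
    _ = _ := by ring

theorem existsUnique_character_act {k : Type u} [Field k] [IsAlgClosed k]
    (G X : Over (Spec (.of k)))
    [GrpObj G] [IsIntegral G.left] [LocallyOfFiniteType G.hom]
    [IsIntegral X.left] [LocallyOfFiniteType X.hom]
    (act : G ⊗ X ⟶ X) (hone : (η[G] ▷ X) ≫ act = (λ_ X).hom)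
    (f : Γ(X.left, ⊤)) (hf : IsUnit f) :
    ∃! χ : Γ(G.left, ⊤), IsUnit χ ∧ η[G].left.appTop χ = 1 ∧
      μ[G].left.appTop χ = (fst G G).left.appTop χ * (snd G G).left.appTop χ ∧
      act.left.appTop f = (fst G X).left.appTop χ * (snd G X).left.appTop f := by
  obtain ⟨χ, u, hχ, hχ1, hχm, hu, hfu⟩ := exists_character_mul G X (act.left.appTop f)
    (hf.map act.left.appTop.hom)
  let t : X ⟶ G ⊗ X := lift (toUnit X ≫ η[G]) (𝟙 X)
  have ht : t ≫ act = 𝟙 X := by
    have h0 : t = lift (toUnit X) (𝟙 X) ≫ (η[G] ▷ X) := by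
      rw [lift_whiskerRight]
    rw [h0, Category.assoc, hone, lift_leftUnitor_hom]
  have ht0 : t.left ≫ act.left = 𝟙 X.left := by
    rw [← Over.comp_left, ht]
    rfl
  have ht1 : t.left ≫ (fst G X).left = X.hom ≫ η[G].left := by
    rw [← Over.comp_left, lift_fst]
    rfl
  have ht2 : t.left ≫ (snd G X).left = 𝟙 X.left := by
    rw [← Over.comp_left, lift_snd]
    rfl
  have hu' : u = f := by
    have := congrArg t.left.appTop hfu
    rw [map_mul, appTop_appTop, appTop_appTop, appTop_appTop, ht0, ht1, ht2, id_appTop_apply,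
      id_appTop_apply, ← appTop_appTop, hχ1, map_one, _root_.one_mul] at this
    exact this.symm
  rw [hu'] at hfu
  refine ⟨χ, ⟨hχ, hχ1, hχm, hfu⟩, ?_⟩
  rintro χ' ⟨-, -, -, h'⟩
  have hunit : IsUnit ((snd G X).left.appTop f) := hf.map (snd G X).left.appTop.hom
  have h1 : (fst G X).left.appTop χ' = (fst G X).left.appTop χ :=
    (hunit.mul_left_inj).mp (h'.symm.trans hfu)
  obtain ⟨x0, hx0⟩ := exists_point X.hom
  let s : G.left ⟶ (G ⊗ X).left := pullback.lift (𝟙 _) (G.hom ≫ x0) (by simp [hx0])
  have hs : s ≫ (fst G X).left = 𝟙 _ := pullback.lift_fst _ _ _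
  have := congrArg s.appTop h1
  rw [appTop_appTop, appTop_appTop, hs, id_appTop_apply, id_appTop_apply] at this
  exact this

end Groth.Agent.Lib.Helper32.Rosenlicht
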